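import Groth.Agent.Cohder.RelPC
import Groth.Prelude.Def_DerSch2

/-!
# Charts and direct images in the derived category

* `nonempty_rpushOfIso`: `R(e)_* ≅ restriction along e⁻¹` for an isomorphism of schemes `e`;
* `nonempty_chart`: for an affine open `U` and a surjection `φ : R[x] → Γ(X, U)` the test object of `DerSch.ChartPC` is
  `R(Spec φ)_*` of the restriction of the complex along `hU.fromSpec`;
* `chartPC_iff`: `DerSch.ChartPC` in terms of `R(Spec φ)_*`.
-/

set_option autoImplicit false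
universe u
open CategoryTheory CategoryTheory.Limits AlgebraicGeometry Opposite TopologicalSpace
attribute [local instance] HasDerivedCategory.standard

namespace K254.ChartPush

open Groth.Agent.Dcoh Groth.Agent.Dcoh.LocalD Groth.Agent.Cohder.RelPCGraph

section Iso

variable {X Y : Scheme.{u}}

/-- Restriction along an isomorphism is an equivalence. -/
noncomputable def restrictEquiv (e : X ≅ Y) : DCoh.D Y ≌ DCoh.D X :=
  CategoryTheory.Equivalence.mk (DCoh.restrictD e.hom) (DCoh.restrictD e.inv)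
    ((restrictIdIso Y).symm ≪≫ (restrictCompEq (f := e.inv) (g := e.hom) e.inv_hom_id).symm)
    (restrictCompEq (f := e.hom) (g := e.inv) e.hom_inv_id ≪≫ restrictIdIso X)

/-- The derived direct image along an isomorphism is the restriction along its inverse. -/
noncomputable def rpushOfIso (e : X ≅ Y) [DCoh.HasRpush e.hom] :
    DCoh.Rpush e.hom ≅ DCoh.restrictD e.inv :=
  (Groth.Agent.Dcoh.DerSch.restrictAdj e.hom).rightAdjointUniq (restrictEquiv e).toAdjunction

end Iso

section Chart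

variable {X : Scheme.{u}} {U : X.Opens} (hU : IsAffineOpen U) {R : Type u} [CommRing R] {n : ℕ}
  (φ : MvPolynomial (Fin n) R →+* Γ(X, U))

lemma chartImm_eq : DerSch.chartImm U φ = hU.isoSpec.hom ≫ sp φ := by
  rw [IsAffineOpen.isoSpec_hom]
  rfl

include hU in
lemma isClosedImmersion_chartImm (hφ : Function.Surjective φ) :
    IsClosedImmersion (DerSch.chartImm U φ) := by
  have : IsClosedImmersion (sp φ) := IsClosedImmersion.spec_of_surjective _ hφ
  rw [chartImm_eq hU φ]
  infer_instance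

/-- The test object of a chart. -/
theorem nonempty_chart (hφ : Function.Surjective φ) (G : CochainComplex X.Modules ℤ)
    [DCoh.HasRpush (sp φ)] :
    Nonempty (DCoh.toD _ ((DerSch.pushCx (DerSch.chartImm U φ)).obj ((DCoh.restrictCx U).obj G)) ≅
      (DCoh.Rpush (sp φ)).obj ((DCoh.restrictD hU.fromSpec).obj (DCoh.toD X G))) := by
  have hc : IsClosedImmersion (DerSch.chartImm U φ) := isClosedImmersion_chartImm hU φ hφ
  have h1 : DCoh.HasRpush (DerSch.chartImm U φ) := Groth.Agent.Dcoh.DerSch.hasRpush _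
  have h2 : DCoh.HasRpush hU.isoSpec.hom := Groth.Agent.Dcoh.DerSch.hasRpush _
  have h3 : DCoh.HasRpush (hU.isoSpec.hom ≫ sp φ) := Groth.Agent.Dcoh.DerSch.hasRpush _
  obtain ⟨e⟩ := Groth.Agent.Dcoh.DerPull.exists_rpushCompIso hU.isoSpec.hom (sp φ)
  exact ⟨((Scheme.Modules.pushforward (DerSch.chartImm U φ)).mapDerivedCategoryFactors.app
      ((DCoh.restrictCx U).obj G)).symm ≪≫
    ((Groth.Agent.PerfC.LpullFlat.rpushIso (DerSch.chartImm U φ)).app _).symm ≪≫
    (Groth.Agent.Dcoh.DerPull.rpushCongr (chartImm_eq hU φ)).app _ ≪≫ (e.app _).symm ≪≫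
    (DCoh.Rpush (sp φ)).mapIso ((rpushOfIso hU.isoSpec).app _ ≪≫
      (DCoh.restrictD hU.isoSpec.inv).mapIso (QRestrict U.ι G).symm ≪≫
      (restrictCompEq (f := hU.isoSpec.inv) (g := U.ι) hU.isoSpec_inv_ι).app _)⟩

/-- The pseudo-coherence test for an immersion of an affine open into an affine space. -/
theorem test_iff (hφ : Function.Surjective φ) [DCoh.HasRpush (sp φ)] (m : ℤ) (K : DCoh.D X) :
    (∀ G : CochainComplex X.Modules ℤ, Nonempty (DCoh.toD X G ≅ K) →
      DCoh.IsPseudoCoherentD m (DCoh.toD _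
        ((DerSch.pushCx (DerSch.chartImm U φ)).obj ((DCoh.restrictCx U).obj G)))) ↔
      DCoh.IsPseudoCoherentD m ((DCoh.Rpush (sp φ)).obj ((DCoh.restrictD hU.fromSpec).obj K)) := by
  constructor
  · intro h
    obtain ⟨e⟩ := nonempty_chart hU φ hφ (DerivedCategory.Q.objPreimage K)
    exact Groth.Agent.PerfC.PcLocal.pc_of_iso (e ≪≫ (DCoh.Rpush (sp φ)).mapIso
      ((DCoh.restrictD hU.fromSpec).mapIso (DerivedCategory.Q.objObjPreimageIso K)))
      (h _ ⟨DerivedCategory.Q.objObjPreimageIso K⟩)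
  · rintro h G ⟨g⟩
    obtain ⟨e⟩ := nonempty_chart hU φ hφ G
    exact Groth.Agent.PerfC.PcLocal.pc_of_iso ((DCoh.Rpush (sp φ)).mapIso
      ((DCoh.restrictD hU.fromSpec).mapIso g.symm) ≪≫ e.symm) h

omit φ in
/-- The pseudo-coherence test on a chart. -/
theorem chartPC_iff {Y : Scheme.{u}} {V : Y.Opens} (ψ : MvPolynomial (Fin n) Γ(Y, V) →+* Γ(X, U))
    (hψ : Function.Surjective ψ) [DCoh.HasRpush (sp ψ)] (m : ℤ) (K : DCoh.D X) :
    DerSch.ChartPC m K U V ψ ↔
      DCoh.IsPseudoCoherentD m ((DCoh.Rpush (sp ψ)).obj ((DCoh.restrictD hU.fromSpec).obj K)) :=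
  test_iff hU ψ hψ m K

end Chart

end K254.ChartPush
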