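import Groth.Agent.KSix.K240.RelBasic
import Groth.Agent.PerfC.TildePush
import Groth.Agent.PerfA.TildeMain
import Groth.Agent.PerfB.TildeExact
import Groth.Agent.S1004
import Groth.Prelude.Def_DerCA

/-!
# The chart test in terms of complexes of modules

* `pushTilde`: `i_* (M~) = (M_R)~` for a closed immersion `i = Spec φ`, as functors on derived categories;
* `test_iff`: for an affine open `U` over an affine open `V` and a chart `φ`, the test of the chart for `E` is the
  pseudo-coherence over the polynomial ring of `M`, when `M~` is `E|_U` carried to `Spec Γ(X, U)`;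
* `exists_module`: such an `M` exists when `E` has quasi-coherent cohomology;
* `isPseudoCoherentRel_iff_ring`: relative pseudo-coherence in terms of modules on pairs of affine opens.
-/

set_option autoImplicit false
universe u
open CategoryTheory CategoryTheory.Limits AlgebraicGeometry Opposite TopologicalSpace
open Groth.Agent.PerfA Groth.Agent.PerfA.Restrict Groth.Agent.PerfC.PcLocal
open Groth.Agent.PerfC.ClosedImmPc K240.PushTest K240.ChartChange K240.RelData K240.RelChart
attribute [local instance] HasDerivedCategory.standard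

namespace K254.ChartRing

section Tilde

variable {R S : CommRingCat.{u}} (φ : R ⟶ S)

/-- `i_* (M~) = (M_R)~`. -/
noncomputable def pushTilde [IsClosedImmersion (Spec.map φ)]
    [PreservesFiniteLimits (tilde.functor R)] [PreservesFiniteLimits (tilde.functor S)] :
    (tilde.functor S).mapDerivedCategory ⋙ pushD (Spec.map φ) ≅
      DRing.restrictD φ.hom ⋙ (tilde.functor R).mapDerivedCategory :=
  haveI : PreservesFiniteLimits (tilde.functor S ⋙ Scheme.Modules.pushforward (Spec.map φ)) :=
    comp_preservesFiniteLimits _ _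
  haveI : PreservesFiniteColimits (tilde.functor S ⋙ Scheme.Modules.pushforward (Spec.map φ)) :=
    comp_preservesFiniteColimits _ _
  haveI : (tilde.functor S ⋙ Scheme.Modules.pushforward (Spec.map φ)).Additive := inferInstance
  ExactD.mapDComp (F := tilde.functor S) (G := Scheme.Modules.pushforward (Spec.map φ))
      (H := tilde.functor S ⋙ Scheme.Modules.pushforward (Spec.map φ)) (Iso.refl _) ≪≫
    (ExactD.mapDComp (F := ModuleCat.restrictScalars.{u} φ.hom) (G := tilde.functor R)
      (H := tilde.functor S ⋙ Scheme.Modules.pushforward (Spec.map φ))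
      (Groth.Agent.PerfC.TildePush.tildePushIso φ).symm).symm

end Tilde

section Chart

variable {X Y : Scheme.{u}} (f : X ⟶ Y)

/-- The complex `E|_U` carried to `Spec Γ(X, U)`. -/
noncomputable abbrev onSpec {U : X.Opens} (hU : IsAffineOpen U) :
    DCoh.D X ⥤ DCoh.D (Spec Γ(X, U)) :=
  restrictD U.ι ⋙ pushD hU.isoSpec.hom

/-- The representative form of `onSpec`. -/
noncomputable def onSpecQ {U : X.Opens} (hU : IsAffineOpen U) (G : CochainComplex X.Modules ℤ) :
    (onSpec hU).obj (DCoh.toD X G) ≅
      DCoh.toD _ ((DerSch.pushCx hU.isoSpec.hom).obj ((DCoh.restrictCx U).obj G)) :=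
  (pushD hU.isoSpec.hom).mapIso (restrictDQ U.ι G) ≪≫
    (Scheme.Modules.pushforward hU.isoSpec.hom).mapDerivedCategoryFactors.app _

lemma isQCohD_onSpec {U : X.Opens} (hU : IsAffineOpen U) {E : DCoh.D X} (hE : DCoh.IsQCohD E) :
    DCoh.IsQCohD ((onSpec hU).obj E) := fun p => by
  have h1 : Coh.IsQCoh (DCoh.HD ((restrictD U.ι).obj E) p) :=
    QCohD.isQCohD_restrictD U.ι hE p
  have h2 := Groth.Agent.Ega1.QcqsPush.isQCoh_pushforward hU.isoSpec.hom _ h1
  exact QCohSerre.isQCoh_of_iso (pushHD hU.isoSpec.hom ((restrictD U.ι).obj E) p).symm h2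

/-- Complexes with quasi-coherent cohomology come from complexes of modules on affine opens. -/
lemma exists_module {U : X.Opens} (hU : IsAffineOpen U)
    [PreservesFiniteLimits (tilde.functor (X.presheaf.obj (op U)))] {E : DCoh.D X}
    (hE : DCoh.IsQCohD E) : ∃ M : Dual.D Γ(X, U),
      Nonempty ((DCoh.tildeD (X.presheaf.obj (op U))).obj M ≅ (onSpec hU).obj E) :=
  TildeMain.exists_iso _ _ (isQCohD_onSpec hU hE)

/-- The test of a chart in terms of modules. -/
theorem test_iff {U : X.Opens} {V : Y.Opens} (hU : IsAffineOpen U)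
    (hV : IsAffineOpen V) (h : U ≤ f ⁻¹ᵁ V) {n : ℕ} (φ : MvPolynomial (Fin n) Γ(Y, V) →+* Γ(X, U))
    (hφ : DerSch.IsChart f U V h φ) [PreservesFiniteLimits (tilde.functor (X.presheaf.obj (op U)))]
    (m : ℤ) (E : DCoh.D X) (M : Dual.D Γ(X, U))
    (e : (DCoh.tildeD (X.presheaf.obj (op U))).obj M ≅ (onSpec hU).obj E) :
    (chartDatum f hU hV h φ hφ).test m E ↔
      DRing.IsPseudoCoherent (MvPolynomial (Fin n) Γ(Y, V)) m ((DRing.restrictD φ).obj M) := by
  have hc := isClosedImmersion_chartImm hU φ hφ.1
  have hs : IsClosedImmersion (Spec.map (CommRingCat.ofHom φ)) := isClosedImmersion_specMap φ hφ.1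
  have hlim : PreservesFiniteLimits
      (tilde.functor (CommRingCat.of (MvPolynomial (Fin n) Γ(Y, V)))) :=
    Groth.Agent.PerfB.TildeExact.preservesFiniteLimits_tilde _
  have e1 : DerSch.chartImm U φ = hU.isoSpec.hom ≫ Spec.map (CommRingCat.ofHom φ) := by
    rw [IsAffineOpen.isoSpec_hom]; rfl
  have hc' : IsClosedImmersion (hU.isoSpec.hom ≫ Spec.map (CommRingCat.ofHom φ)) := inferInstance
  have key : (pushD (DerSch.chartImm U φ)).obj ((restrictD U.ι).obj E) ≅
      (DCoh.tildeD (CommRingCat.of (MvPolynomial (Fin n) Γ(Y, V)))).obj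
        ((DRing.restrictD φ).obj M) :=
    (pushDCongr e1).app _ ≪≫ (pushDComp hU.isoSpec.hom
      (Spec.map (CommRingCat.ofHom φ))).symm.app _ ≪≫
      (pushD (Spec.map (CommRingCat.ofHom φ))).mapIso e.symm ≪≫
      (pushTilde (CommRingCat.ofHom φ)).app M
  rw [← Groth.Agent.S1004.result]
  exact ⟨fun H => pc_of_iso key H, fun H => pc_of_iso key.symm H⟩

end Chart

end K254.ChartRing
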