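import Groth.Agent.Dcoh.StalkRestrict
import Groth.Agent.Dcoh.LocalD
import Groth.Prelude.Def_DerSch

/-!
# Stalkwise tor amplitude: exactness of stalks, invariance, restriction

* `stalkOver f x` is exact;
* `hasTorAmplitudeAt_iff_of_iso`: `DerSch.HasTorAmplitudeAt` only depends on the object of the derived category;
* `hasTorAmplitudeAt_restrict_iff`: restriction along an open subscheme;
* `hasTorAmplitudeAt_of_flat`: complexes in `[a, b]` with terms flat over the base;
* `locFiniteTorAmplitudeD_of_locHasFiniteRelTorDim`.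
-/

set_option autoImplicit false
universe u
open CategoryTheory CategoryTheory.Limits AlgebraicGeometry Opposite TopologicalSpace
attribute [local instance] HasDerivedCategory.standard

namespace K254.StalkTor

open Groth.Agent.Dcoh Groth.Agent.Dcoh.StalkRestrict Groth.Agent.CycB.StalkExact

variable {X Y : Scheme.{u}} (f : X ⟶ Y)

/-- The two stalk functors agree. -/
noncomputable def stalkFunctorIso (x : X) : StalkMod.stalkMod x ≅ DerSch.stalkFunctor X x :=
  NatIso.ofComponents (fun M => Iso.refl _) (fun φ => by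
    ext m
    rfl)

instance preservesFiniteLimits_stalkFunctor (x : X) :
    PreservesFiniteLimits (DerSch.stalkFunctor X x) :=
  preservesFiniteLimits_of_natIso (stalkFunctorIso x)

instance preservesFiniteColimits_stalkFunctor (x : X) :
    PreservesFiniteColimits (DerSch.stalkFunctor X x) :=
  preservesFiniteColimits_of_natIso (stalkFunctorIso x)

instance preservesFiniteLimits_stalkOver (x : X) :
    PreservesFiniteLimits (DerSch.stalkOver f x) :=
  comp_preservesFiniteLimits _ _

instance preservesFiniteColimits_stalkOver (x : X) :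
    PreservesFiniteColimits (DerSch.stalkOver f x) :=
  comp_preservesFiniteColimits _ _

/-- Tor amplitude only depends on the class in the derived category. -/
lemma torAmplitude_of_iso {A : Type u} [CommRing A] {K L : Dual.D A} (e : K ≅ L) {a b : ℤ}
    (h : DRing.HasTorAmplitudeIn A a b K) : DRing.HasTorAmplitudeIn A a b L := by
  obtain ⟨E, h1, h2, ⟨i⟩⟩ := h
  exact ⟨E, h1, h2, ⟨i ≪≫ e⟩⟩

/-- The stalk complexes of isomorphic objects of the derived category are isomorphic. -/
noncomputable def stalkIso {F G : CochainComplex X.Modules ℤ} (e : DCoh.toD X F ≅ DCoh.toD X G)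
    (x : X) : DRing.toD ((DerSch.stalkCxOver f x).obj F) ≅
      DRing.toD ((DerSch.stalkCxOver f x).obj G) :=
  ((DerSch.stalkOver f x).mapDerivedCategoryFactors.app F).symm ≪≫
    (DerSch.stalkOver f x).mapDerivedCategory.mapIso e ≪≫
    (DerSch.stalkOver f x).mapDerivedCategoryFactors.app G

lemma hasTorAmplitudeAt_of_iso {F G : CochainComplex X.Modules ℤ}
    (e : DCoh.toD X F ≅ DCoh.toD X G) {a b : ℤ} {x : X} (h : DerSch.HasTorAmplitudeAt f a b F x) :
    DerSch.HasTorAmplitudeAt f a b G x :=
  torAmplitude_of_iso (stalkIso f e x) h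

lemma hasTorAmplitudeAt_iff_of_iso {F G : CochainComplex X.Modules ℤ}
    (e : DCoh.toD X F ≅ DCoh.toD X G) (a b : ℤ) (x : X) :
    DerSch.HasTorAmplitudeAt f a b F x ↔ DerSch.HasTorAmplitudeAt f a b G x :=
  ⟨hasTorAmplitudeAt_of_iso f e, hasTorAmplitudeAt_of_iso f e.symm⟩

section Restrict

variable {U : Scheme.{u}} (j : U ⟶ X) [IsOpenImmersion j]

/-- The stalk of a restriction, over the base. -/
noncomputable def stalkRes (x : U) : X.Modules ⥤ ModuleCat.{u} (Y.presheaf.stalk (f (j x))) :=
  Scheme.Modules.restrictFunctor j ⋙ DerSch.stalkOver (j ≫ f) x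

/-- The stalk of a restriction, over the base, at one module. -/
noncomputable def stalkResEquiv (x : U) (M : X.Modules) :
    (stalkRes f j x).obj M ≃ₗ[Y.presheaf.stalk (f (j x))] (DerSch.stalkOver f (j x)).obj M where
  toFun := ρ j M x
  invFun := (ρ j M x).symm
  left_inv := (ρ j M x).left_inv
  right_inv := (ρ j M x).right_inv
  map_add' := (ρ j M x).map_add
  map_smul' r m := by
    have h : ∀ m : (M.restrict j).presheaf.stalk x,
        ρ j M x (((j ≫ f).stalkMap x).hom r • m) = (f.stalkMap (j x)).hom r • ρ j M x m := by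
      intro m
      rw [Scheme.Hom.stalkMap_comp]
      exact ρ_smul j M x ((f.stalkMap (j x)).hom r) m
    exact h m

/-- The stalk of a restriction, over the base. -/
noncomputable def stalkResIso (x : U) : stalkRes f j x ≅ DerSch.stalkOver f (j x) :=
  NatIso.ofComponents (fun M => LinearEquiv.toModuleIso (stalkResEquiv f j x M))
    (fun {M N} φ => by
      ext m
      exact ρ_naturality j φ x m)

lemma hasTorAmplitudeAt_restrict_iff (F : CochainComplex X.Modules ℤ) (a b : ℤ) (x : U) :
    DerSch.HasTorAmplitudeAt (j ≫ f) a b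
      (((Scheme.Modules.restrictFunctor j).mapHomologicalComplex (ComplexShape.up ℤ)).obj F) x ↔
      DerSch.HasTorAmplitudeAt f a b F (j x) := by
  let e : (DerSch.stalkCxOver (j ≫ f) x).obj
      (((Scheme.Modules.restrictFunctor j).mapHomologicalComplex (ComplexShape.up ℤ)).obj F) ≅
      (DerSch.stalkCxOver f (j x)).obj F :=
    HomologicalComplex.Hom.isoOfComponents (fun i => (stalkResIso f j x).app (F.X i))
      (fun i k _ => ((stalkResIso f j x).hom.naturality (F.d i k)).symm)
  exact ⟨torAmplitude_of_iso (DerivedCategory.Q.mapIso e),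
    torAmplitude_of_iso (DerivedCategory.Q.mapIso e.symm)⟩

end Restrict

/-- A complex in `[a, b]` whose terms are flat over the base has tor amplitude in `[a, b]`. -/
lemma hasTorAmplitudeAt_of_flat {a b : ℤ} {E : CochainComplex X.Modules ℤ}
    (h1 : DCoh.VanishesOutside E a b) (h2 : ∀ i : ℤ, FlatMod.IsFlatOver f (E.X i)) (x : X) :
    DerSch.HasTorAmplitudeAt f a b E x :=
  ⟨(DerSch.stalkCxOver f x).obj E, fun i hi => (DerSch.stalkOver f x).map_isZero (h1 i hi),
    fun i => h2 i x, ⟨Iso.refl _⟩⟩

/-- Locally finite relative tor dimension (representative form) implies the stalkwise form. -/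
theorem locFiniteTorAmplitudeD_of_locHasFiniteRelTorDim {K : DCoh.D X}
    (h : DCoh.LocHasFiniteRelTorDim f K) : DerSch.LocFiniteTorAmplitudeD f K := by
  intro F hF x
  obtain ⟨V, a, b, hx, hV⟩ := h x
  obtain ⟨E, h1, h2, ⟨e⟩⟩ := hV F hF
  refine ⟨V, a, b, hx, fun x' hx' => ?_⟩
  have h3 := hasTorAmplitudeAt_of_flat (V.ι ≫ f) h1 h2 ⟨x', hx'⟩
  exact (hasTorAmplitudeAt_restrict_iff f V.ι F a b ⟨x', hx'⟩).1
    (hasTorAmplitudeAt_of_iso (V.ι ≫ f) e h3)

end K254.StalkTor
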