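import Groth.Agent.FlatMor.K254.ThickQCoh
import Groth.Agent.Flat2D.ThickRed
import Groth.Agent.S1055
import Groth.Agent.S2066
import Groth.Agent.LoccohB.LBC
import Groth.Agent.PerfA.PCohQCoh

/-!
# Pseudo-coherence and thickenings

* `exists_affine`: affine charts of a finite order thickening;
* `pc_ring_of_sch`: if `Li^* K` is pseudo-coherent for `i : Spec B ⟶ Spec A` with nilpotent kernel, then `K = M~` with
  `M ⊗^L B` pseudo-coherent;
* `pc_of_affine`: reduction of the thickening statement to rings.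
-/

set_option autoImplicit false
universe u
open CategoryTheory CategoryTheory.Limits AlgebraicGeometry Opposite TopologicalSpace
open Groth.Agent.PerfA Groth.Agent.PerfC
attribute [local instance] HasDerivedCategory.standard

namespace K254.ThickPC

/-- Affine charts of a finite order thickening. -/
theorem exists_affine {X X' : Scheme.{u}} (i : X ⟶ X') (hi : MoreMor.IsFiniteOrderThickening i)
    (x : X') (W₀ : X'.Opens) (hx : x ∈ W₀) :
    ∃ (A B : CommRingCat.{u}) (φ : A ⟶ B) (j : Spec A ⟶ X') (j' : Spec B ⟶ X) (y : Spec A),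
      IsOpenImmersion j ∧ IsOpenImmersion j' ∧ j y = x ∧ Function.Surjective φ.hom ∧
      IsNilpotent (RingHom.ker φ.hom) ∧ j' ≫ i = Spec.map φ ≫ j ∧ Set.range j ⊆ W₀ := by
  have hc : IsClosedImmersion i := hi.1.1
  obtain ⟨W, hW, hxW, hWW⟩ := exists_isAffineOpen_mem_and_subset (x := x) (U := W₀) hx
  have hW' : IsAffineOpen (i ⁻¹ᵁ W) := hW.preimage i
  obtain ⟨y, hy⟩ : ∃ y : Spec Γ(X', W), hW.fromSpec y = x := by
    have : x ∈ Set.range hW.fromSpec := by rw [hW.range_fromSpec]; exact hxW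
    exact this
  refine ⟨Γ(X', W), Γ(X, i ⁻¹ᵁ W), i.app W, hW.fromSpec, hW'.fromSpec, y, inferInstance,
    inferInstance, hy, i.app_surjective W hW, Groth.Agent.Flat2D.ThickRed.isNilpotent_ker_app hi hW,
    ?_, ?_⟩
  · have h1 := IsAffineOpen.SpecMap_appLE_fromSpec i hW hW' le_rfl
    rw [← Scheme.Hom.app_eq_appLE] at h1
    exact h1.symm
  · rintro z hz
    have h2 : z ∈ Set.range hW.fromSpec := hz
    rw [hW.range_fromSpec] at h2
    exact hWW h2

section Ring

variable {A B : CommRingCat.{u}} (φ : A ⟶ B)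

/-- Passage to rings. -/
theorem exists_module (hφ : Function.Surjective φ.hom) (hn : IsNilpotent (RingHom.ker φ.hom))
    [DCoh.HasLpull (Spec.map φ)] [DRing.HasLBaseChange φ.hom]
    [PreservesFiniteLimits (tilde.functor A)] (K : DCoh.D (Spec A))
    (hK : ∀ m : ℤ, DCoh.IsPseudoCoherentD m ((DCoh.Lpull (Spec.map φ)).obj K)) :
    ∃ M : Dual.D A, Nonempty ((DCoh.tildeD A).obj M ≅ K) ∧
      DRing.IsPseudoCoherent' B ((DRing.LBaseChange φ.hom).obj M) := by
  have hlim : PreservesFiniteLimits (tilde.functor B) :=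
    Groth.Agent.PerfB.TildeExact.preservesFiniteLimits_tilde _
  have hQ : DCoh.IsQCohD K := K254.ThickQCoh.isQCohD_of_Lpull φ hφ hn K
    (PCohQCoh.isQCohD_of_isPseudoCoherentD hK)
  obtain ⟨M, ⟨e⟩⟩ := TildeMain.exists_iso A K hQ
  refine ⟨M, ⟨e⟩, ?_⟩
  obtain ⟨t⟩ := Groth.Agent.S1055.result φ.hom
  rw [← (Groth.Agent.S2066.result _).1]
  intro m
  rw [← Groth.Agent.S1004.result]
  exact PcLocal.pc_of_iso ((DCoh.Lpull (Spec.map φ)).mapIso e.symm ≪≫ (t.app M).symm) (hK m)

end Ring

end K254.ThickPC
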