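import Groth.Agent.S0966
import Groth.Agent.S1062
import Groth.Agent.S0998
import Groth.Agent.Cohder.RelPCMon
import Groth.Agent.PerfC.DTens
import Groth.Agent.PerfC.LpullFlat
import Groth.Agent.Dcoh.DerPull2
import Groth.Agent.FlatMor.K254.ChartRing
import Mathlib.Algebra.Homology.DerivedCategory.SingleTriangle

/-!
# Quasi-coherence of the cohomology and thickenings

* `devissage`: a triangulated functor on `D(A)` and a nilpotent ideal `I`;
* `exists_restrictScalars`: a module killed by the kernel of a surjection `A → B` comes from a `B`-module;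
* `isQCohD_of_Lpull`: for `i : Spec B ⟶ Spec A` with nilpotent kernel and any `K ∈ D(O_{Spec A})`, if `Li^* K` has
  quasi-coherent cohomology then so has `K`.
-/

set_option autoImplicit false
universe u
open CategoryTheory CategoryTheory.Limits AlgebraicGeometry Opposite TopologicalSpace
open CategoryTheory.Pretriangulated
open Groth.Agent.PerfA Groth.Agent.PerfC Groth.Agent.PerfC.IsoLocus
attribute [local instance] HasDerivedCategory.standard

namespace K254.ThickQCoh

section Devissage

variable {A : Type u} [CommRing A] {𝒜 : Type*} [Category 𝒜] [Abelian 𝒜] [HasDerivedCategory 𝒜]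
  {C : Type*} [Category C] [Preadditive C] [HasZeroObject C]
  [HasShift C ℤ] [∀ n : ℤ, (shiftFunctor C n).Additive] [Pretriangulated C]

/-- Dévissage along the powers of an ideal. -/
theorem devissage (F : ModuleCat.{u} A ⥤ 𝒜) [F.Additive] [PreservesFiniteLimits F]
    [PreservesFiniteColimits F] (T : DerivedCategory 𝒜 ⥤ C) (hT : IsTriang T)
    (Q : ObjectProperty C) [Q.IsClosedUnderIsomorphisms] [Q.ContainsZero]
    [Q.IsTriangulatedClosed₂] (I : Ideal A)
    (h : ∀ M : ModuleCat.{u} A, (∀ a ∈ I, ∀ x : M, a • x = 0) →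
      Q (T.obj ((DerivedCategory.singleFunctor 𝒜 0).obj (F.obj M)))) (n : ℕ) :
    ∀ M : ModuleCat.{u} A, (∀ a ∈ I ^ n, ∀ x : M, a • x = 0) →
      Q (T.obj ((DerivedCategory.singleFunctor 𝒜 0).obj (F.obj M))) := by
  obtain ⟨_, _⟩ := hT
  induction n with
  | zero =>
    intro M hM
    have hs : Subsingleton M := by
      refine ⟨fun x y => ?_⟩
      have h1 := hM 1 (by simp) x
      have h2 := hM 1 (by simp) y
      rw [one_smul] at h1 h2
      rw [h1, h2]
    have hz : IsZero M := ModuleCat.isZero_of_subsingleton M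
    exact Q.prop_of_isZero (T.map_isZero ((DerivedCategory.singleFunctor 𝒜 0).map_isZero
      (F.map_isZero hz)))
  | succ n ih =>
    intro M hM
    let N : Submodule A M := I ^ n • (⊤ : Submodule A M)
    let S : ShortComplex (ModuleCat.{u} A) :=
      ShortComplex.mk (ModuleCat.ofHom N.subtype) (ModuleCat.ofHom N.mkQ) (by
        ext x
        simp)
    have hS : S.ShortExact := by
      have h1 : Mono S.f := (ModuleCat.mono_iff_injective _).2 N.injective_subtype
      have h2 : Epi S.g := (ModuleCat.epi_iff_surjective _).2 N.mkQ_surjective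
      refine ⟨(ShortComplex.ShortExact.mk ?_).exact⟩
      rw [ShortComplex.moduleCat_exact_iff]
      intro x hx
      have hx' : N.mkQ x = 0 := hx
      rw [Submodule.mkQ_apply, Submodule.Quotient.mk_eq_zero] at hx'
      exact ⟨⟨x, hx'⟩, rfl⟩
    have hT := T.map_distinguished _ (hS.map_of_exact F).singleTriangle_distinguished
    refine Q.ext_of_isTriangulatedClosed₂ _ hT ?_ ?_
    · refine h (ModuleCat.of A N) ?_
      rintro a ha ⟨x, hx⟩
      refine Subtype.ext ?_
      change a • x = 0
      have hle : I • N ≤ (⊥ : Submodule A M) := by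
        rw [← Submodule.mul_smul, ← pow_succ', Submodule.smul_le]
        intro b hb y _
        rw [hM b hb y]
        exact Submodule.zero_mem _
      exact (Submodule.mem_bot A).1 (hle (Submodule.smul_mem_smul ha hx))
    · refine ih (ModuleCat.of A (M ⧸ N)) ?_
      intro a ha x
      obtain ⟨y, rfl⟩ := N.mkQ_surjective x
      change a • N.mkQ y = 0
      rw [← map_smul, Submodule.mkQ_apply, Submodule.Quotient.mk_eq_zero]
      exact Submodule.smul_mem_smul ha trivial

end Devissage

section Surj

variable {A B : Type u} [CommRing A] [CommRing B] (φ : A →+* B)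

/-- A module killed by the kernel of a surjection `A → B` comes from a `B`-module. -/
theorem exists_restrictScalars (hφ : Function.Surjective φ) (M : ModuleCat.{u} A)
    (hM : ∀ a ∈ RingHom.ker φ, ∀ x : M, a • x = 0) :
    ∃ N : ModuleCat.{u} B, Nonempty ((ModuleCat.restrictScalars.{u} φ).obj N ≅ M) := by
  let s := Function.surjInv hφ
  have hs : ∀ b, φ (s b) = b := Function.surjInv_eq hφ
  have key : ∀ (a a' : A) (x : M), φ a = φ a' → a • x = a' • x := by
    intro a a' x h
    have := hM (a - a') (by rw [RingHom.mem_ker, map_sub, h, sub_self]) x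
    rwa [sub_smul, sub_eq_zero] at this
  let inst : Module B M :=
    { smul := fun b x => s b • x
      one_smul := fun x => by
        change s 1 • x = x
        rw [key (s 1) 1 x (by rw [hs, map_one]), one_smul]
      mul_smul := fun b b' x => by
        change s (b * b') • x = s b • s b' • x
        rw [← mul_smul]
        exact key _ _ _ (by rw [hs, map_mul, hs, hs])
      smul_zero := fun b => smul_zero (s b)
      smul_add := fun b x y => smul_add (s b) x y
      add_smul := fun b b' x => by
        change s (b + b') • x = s b • x + s b' • x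
        rw [← add_smul]
        exact key _ _ _ (by rw [hs, map_add, hs, hs])
      zero_smul := fun x => by
        change s 0 • x = 0
        rw [key (s 0) 0 x (by rw [hs, map_zero]), zero_smul] }
  let N : ModuleCat.{u} B := ModuleCat.of B M
  let e : ↑((ModuleCat.restrictScalars.{u} φ).obj N) ≃ₗ[A] M :=
    { AddEquiv.refl M with
      map_smul' := fun a x => key (s (φ a)) a x (hs _) }
  exact ⟨N, ⟨e.toModuleIso⟩⟩

end Surj

section Main

variable {A B : CommRingCat.{u}} (φ : A ⟶ B)

/-- The tilde functor with values in modules on `Spec A`. -/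
noncomputable def tF (A : CommRingCat.{u}) : ModuleCat.{u} A ⥤ (Spec A).Modules :=
  tilde.functor A

noncomputable instance (A : CommRingCat.{u}) : (tF A).Additive :=
  inferInstanceAs (tilde.functor A).Additive
noncomputable instance (A : CommRingCat.{u}) : PreservesFiniteLimits (tF A) :=
  Groth.Agent.PerfB.TildeExact.preservesFiniteLimits_tilde A
noncomputable instance (A : CommRingCat.{u}) : PreservesFiniteColimits (tF A) :=
  inferInstanceAs (PreservesFiniteColimits (tilde.functor A))

/-- `A~ = O`. -/
noncomputable def tFSelf (A : CommRingCat.{u}) :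
    (tF A).obj (ModuleCat.of A A) ≅ Coh.structureModule (Spec A) := tildeSelf

/-- `i_* (N~) = (N_A)~`. -/
noncomputable def tFPush : tF B ⋙ Scheme.Modules.pushforward (Spec.map φ) ≅
    ModuleCat.restrictScalars φ.hom ⋙ tF A := Groth.Agent.PerfC.TildePush.tildePushIso φ

lemma isQCoh_tF (M : ModuleCat.{u} A) : Coh.IsQCoh ((tF A).obj M) :=
  inferInstanceAs ((tilde.functor A).obj M).IsQuasicoherent

/-- `i_* (N~) = (N_A)~` in degree zero. -/
theorem nonempty_pushSingle (hφ : Function.Surjective φ.hom) [DCoh.HasRpush (Spec.map φ)]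
    (N : ModuleCat.{u} B) :
    Nonempty ((DCoh.Rpush (Spec.map φ)).obj
      ((DerivedCategory.singleFunctor (Spec B).Modules 0).obj ((tF B).obj N)) ≅
    (DerivedCategory.singleFunctor (Spec A).Modules 0).obj ((tF A).obj
      ((ModuleCat.restrictScalars.{u} φ.hom).obj N))) := by
  have hc : IsClosedImmersion (Spec.map φ) := IsClosedImmersion.spec_of_surjective _ hφ
  exact ⟨(Groth.Agent.PerfC.LpullFlat.rpushIso (Spec.map φ)).app _ ≪≫
    ((Scheme.Modules.pushforward (Spec.map φ)).mapDerivedCategorySingleFunctor 0).app _ ≪≫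
    (DerivedCategory.singleFunctor (Spec A).Modules 0).mapIso ((tFPush φ).app N)⟩

/-- The case of a module from the quotient. -/
theorem isQCohD_tensor (hφ : Function.Surjective φ.hom) (P : CochainComplex (Spec A).Modules ℤ)
    (hP : DCoh.IsKFlat P) [DCoh.HasLpull (Spec.map φ)] [DCoh.HasLTensorCx P]
    (h : DCoh.IsQCohD ((DCoh.Lpull (Spec.map φ)).obj (DCoh.toD _ P))) (M : ModuleCat.{u} A)
    (hM : ∀ a ∈ RingHom.ker φ.hom, ∀ x : M, a • x = 0) :
    DCoh.IsQCohD ((DCoh.LTensorCx P).obj
      ((DerivedCategory.singleFunctor (Spec A).Modules 0).obj ((tF A).obj M))) := by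
  have hc : IsClosedImmersion (Spec.map φ) := IsClosedImmersion.spec_of_surjective _ hφ
  have hr : DCoh.HasRpush (Spec.map φ) := Groth.Agent.Dcoh.DerSch.hasRpush _
  let P' := ((Scheme.Modules.pullback (Spec.map φ)).mapHomologicalComplex (ComplexShape.up ℤ)).obj P
  have ht : DCoh.HasLTensorCx P' := Groth.Agent.PerfC.DTens.hasLTensorCx P'
  obtain ⟨N, ⟨e⟩⟩ := exists_restrictScalars φ.hom hφ M hM
  obtain ⟨e1⟩ := nonempty_pushSingle φ hφ N
  obtain ⟨e2⟩ := Groth.Agent.S0966.result (Spec.map φ) P hP
    ((DerivedCategory.singleFunctor (Spec B).Modules 0).obj ((tF B).obj N))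
  have h1 : DCoh.IsQCohD (DCoh.toD _ P') :=
    QCohD.isQCohD_of_iso (Groth.Agent.Dcoh.DerPull.lpullIso (Spec.map φ) P hP) h
  have h2 : DCoh.IsQCohD ((DCoh.Rpush (Spec.map φ)).obj ((DCoh.LTensorCx P').obj
      ((DerivedCategory.singleFunctor (Spec B).Modules 0).obj ((tF B).obj N)))) :=
    Groth.Agent.S0998.result _ _ (Groth.Agent.S1062.result _ P' h1 _
      (QCohD.isQCohD_single _ (isQCoh_tF N) 0))
  exact QCohD.isQCohD_of_iso ((DCoh.LTensorCx P).mapIso
    ((DerivedCategory.singleFunctor (Spec A).Modules 0).mapIso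
      ((tF A).mapIso e.symm) ≪≫ e1.symm) ≪≫ e2).symm h2

/-- Quasi-coherence of the cohomology can be tested on a closed subscheme defined by a nilpotent ideal. -/
theorem isQCohD_of_Lpull (hφ : Function.Surjective φ.hom) (hn : IsNilpotent (RingHom.ker φ.hom))
    [DCoh.HasLpull (Spec.map φ)] (K : DCoh.D (Spec A))
    (h : DCoh.IsQCohD ((DCoh.Lpull (Spec.map φ)).obj K)) : DCoh.IsQCohD K := by
  obtain ⟨P, hP, ⟨eP⟩⟩ := Groth.Agent.Cohder.RelPCMon.exists_kflat K
  have ht : DCoh.HasLTensorCx P := Groth.Agent.PerfC.DTens.hasLTensorCx P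
  have h' : DCoh.IsQCohD ((DCoh.Lpull (Spec.map φ)).obj (DCoh.toD _ P)) :=
    QCohD.isQCohD_of_iso ((DCoh.Lpull (Spec.map φ)).mapIso eP.symm) h
  obtain ⟨n, hn⟩ := hn
  have key := devissage (tF A) (DCoh.LTensorCx P)
    (Groth.Agent.PerfC.DTens.isTriang_LTensorCx P) (DCoh.IsQCohD (X := Spec A))
    (RingHom.ker φ.hom) (fun M hM => isQCohD_tensor φ hφ P hP h' M hM) n (ModuleCat.of A A)
    (fun a ha x => by
      rw [hn] at ha
      rw [(Submodule.mem_bot A).1 ha, zero_smul])
  obtain ⟨e⟩ := Groth.Agent.Cohder.RelPCMon.nonempty_unit P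
  exact QCohD.isQCohD_of_iso ((DCoh.LTensorCx P).mapIso
    ((DerivedCategory.singleFunctor (Spec A).Modules 0).mapIso (tFSelf A)) ≪≫ e ≪≫ eP) key

end Main

end K254.ThickQCoh
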